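import Groth.Agent.PullStalk.Basic
import Mathlib.AlgebraicGeometry.Morphisms.ClosedImmersion
import Mathlib.Topology.Sheaves.Stalks

/-!
For a closed immersion `i` and a module `G`, the unit `G ⟶ i_* i^* G` is an isomorphism iff the
ideal of `i` kills `G`.
-/

universe u

open CategoryTheory AlgebraicGeometry TopologicalSpace Opposite
open Groth.Agent.PullStalk.Sky Groth.Agent.PullStalk.Basic

noncomputable section

namespace Groth.Agent.ClUnit

/-- A base change along a surjection is surjective. -/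
lemma isBaseChange_surjective {R S M N : Type u} [CommRing R] [CommRing S] [Algebra R S]
    [AddCommGroup M] [Module R M] [AddCommGroup N] [Module R N] [Module S N] [IsScalarTower R S N]
    {φ : M →ₗ[R] N} (h : IsBaseChange S φ) (hS : Function.Surjective (algebraMap R S)) :
    Function.Surjective φ := by
  intro n
  refine h.inductionOn n _ ⟨0, map_zero φ⟩ (fun m ↦ ⟨m, rfl⟩) ?_ ?_
  · rintro s _ ⟨m, rfl⟩
    obtain ⟨r, rfl⟩ := hS s
    exact ⟨r • m, by rw [map_smul, algebraMap_smul]⟩
  · rintro _ _ ⟨a, rfl⟩ ⟨b, rfl⟩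
    exact ⟨a + b, map_add φ a b⟩

/-- A base change along a surjection is injective iff the kernel kills the module. -/
lemma isBaseChange_injective_iff {R S M N : Type u} [CommRing R] [CommRing S] [Algebra R S]
    [AddCommGroup M] [Module R M] [AddCommGroup N] [Module R N] [Module S N] [IsScalarTower R S N]
    {φ : M →ₗ[R] N} (h : IsBaseChange S φ) (hS : Function.Surjective (algebraMap R S)) :
    Function.Injective φ ↔ ∀ r ∈ RingHom.ker (algebraMap R S), ∀ m : M, r • m = 0 := by
  constructor
  · intro hφ r hr m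
    apply hφ
    rw [map_smul, map_zero, ← algebraMap_smul S r (φ m), RingHom.mem_ker.mp hr, zero_smul]
  · intro hk
    letI : SMul S M := ⟨fun s m ↦ (hS s).choose • m⟩
    have key : ∀ (r : R) (m : M), algebraMap R S r • m = r • m := fun r m ↦ by
      change (hS (algebraMap R S r)).choose • m = r • m
      rw [← sub_eq_zero, ← sub_smul]
      exact hk _ (by rw [RingHom.mem_ker, map_sub, (hS (algebraMap R S r)).choose_spec, sub_self]) m
    letI : Module S M := Function.Surjective.moduleLeft (algebraMap R S) hS key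
    haveI : IsScalarTower R S M := IsScalarTower.of_algebraMap_smul key
    intro a b hab
    have e : ∀ m, h.lift (LinearMap.id : M →ₗ[R] M) (φ m) = m :=
      fun m ↦ h.lift_eq _ m
    rw [← e a, ← e b, hab]

variable {Z X : Scheme.{u}} (i : Z ⟶ X)

/-- Stalks of a pushforward at an image point, along a topological inducing map. -/
lemma stalkPushforward_bijective (N : Z.Modules) (hi : Topology.IsInducing i) (z : Z) :
    Function.Bijective (TopCat.Presheaf.stalkPushforward AddCommGrpCat i.base N.presheaf z) := by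
  have := TopCat.Presheaf.stalkPushforward.stalkPushforward_iso_of_isInducing (C := AddCommGrpCat)
    hi N.presheaf z
  exact ConcreteCategory.bijective_of_isIso _

/-- Stalks of a pushforward vanish off the closure of the image. -/
lemma subsingleton_stalk_pushforward (N : Z.Modules) (x : X) (O : X.Opens) (hxO : x ∈ O)
    (hO : i ⁻¹ᵁ O = ⊥) :
    Subsingleton (((Scheme.Modules.pushforward i).obj N).presheaf.stalk x) := by
  refine subsingleton_of_forall_eq 0 fun t ↦ ?_
  obtain ⟨W, hxW, w, rfl⟩ := exists_germM_eq _ x t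
  have hle : W ⊓ O ≤ W := inf_le_left
  have hbot : i ⁻¹ᵁ (W ⊓ O) = ⊥ := le_bot_iff.mp (hO ▸ fun z hz ↦ hz.2)
  have : Subsingleton Γ(N, i ⁻¹ᵁ (W ⊓ O)) := by
    rw [hbot]
    exact AddCommGrpCat.subsingleton_of_isZero
      ((TopCat.Sheaf.isTerminalOfEmpty ⟨N.presheaf, N.isSheaf⟩).isZero)
  refine ((((Scheme.Modules.pushforward i).obj N).presheaf.germ_res_apply (homOfLE hle) x
    ⟨hxW, hxO⟩ w).symm).trans ?_
  exact (congrArg (((Scheme.Modules.pushforward i).obj N).presheaf.germ (W ⊓ O) x ⟨hxW, hxO⟩)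
    (@Subsingleton.elim _ this _ 0)).trans (map_zero _)

lemma isIso_of_stalks {M N : X.Modules} (φ : M ⟶ N)
    (h : ∀ x, Function.Bijective
      ((TopCat.Presheaf.stalkFunctor AddCommGrpCat.{u} x).map φ.mapPresheaf)) : IsIso φ := by
  rw [Scheme.Modules.Hom.isIso_iff_isIso_app]
  intro U
  rw [ConcreteCategory.isIso_iff_bijective]
  exact TopCat.Presheaf.app_bijective_of_stalkFunctor_map_bijective
    (F := (⟨M.presheaf, M.isSheaf⟩ : TopCat.Sheaf AddCommGrpCat X))
    (G := ⟨N.presheaf, N.isSheaf⟩) ⟨φ.mapPresheaf⟩ U fun x _ ↦ h x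

lemma bijective_of_isIso {M N : X.Modules} (φ : M ⟶ N) [IsIso φ] (x : X) :
    Function.Bijective
      ((TopCat.Presheaf.stalkFunctor AddCommGrpCat.{u} x).map φ.mapPresheaf) := by
  have : IsIso φ.mapPresheaf := inferInstanceAs (IsIso ((Scheme.Modules.toPresheaf X).map φ))
  exact ConcreteCategory.bijective_of_isIso _

variable (G : X.Modules)

/-- The unit at an image point is the unit on stalks. -/
lemma stalkPushforward_unit (z : Z) (t : G.presheaf.stalk (i z)) :
    TopCat.Presheaf.stalkPushforward AddCommGrpCat i.base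
        ((Scheme.Modules.pullback i).obj G).presheaf z
        ((TopCat.Presheaf.stalkFunctor AddCommGrpCat.{u} (i z)).map
          ((Scheme.Modules.pullbackPushforwardAdjunction i).unit.app G).mapPresheaf t) =
      unitStalkHom i G z t := by
  obtain ⟨U, hU, m, rfl⟩ := exists_germM_eq G (i z) t
  rw [unitStalkHom_germ]
  erw [TopCat.Presheaf.stalkFunctor_map_germ_apply]
  exact TopCat.Presheaf.stalkPushforward_germ_apply _ _ _ _ _ _ _

variable [IsClosedImmersion i]

/-- Stalkwise criterion. -/
lemma isIso_unit_iff_stalk :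
    IsIso ((Scheme.Modules.pullbackPushforwardAdjunction i).unit.app G) ↔
      (∀ z, ∀ r ∈ RingHom.ker (i.stalkMap z).hom, ∀ t : G.presheaf.stalk (i z), r • t = 0) ∧
      ∀ x ∉ Set.range i, Subsingleton (G.presheaf.stalk x) := by
  have hoff : ∀ x ∉ Set.range i, Subsingleton
      (((Scheme.Modules.pushforward i).obj ((Scheme.Modules.pullback i).obj G)).presheaf.stalk x) :=
    fun x hx ↦ subsingleton_stalk_pushforward i _ x
      ⟨(Set.range i)ᶜ, i.isClosedEmbedding.isClosed_range.isOpen_compl⟩ hx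
      (le_bot_iff.mp fun z hz ↦ hz ⟨z, rfl⟩)
  have hsurj : ∀ z, Function.Surjective (i.stalkMap z) := fun z ↦ i.stalkMap_surjective z
  have hbc : ∀ z, Function.Bijective ((TopCat.Presheaf.stalkFunctor AddCommGrpCat.{u} (i z)).map
        ((Scheme.Modules.pullbackPushforwardAdjunction i).unit.app G).mapPresheaf) ↔
      ∀ r ∈ RingHom.ker (i.stalkMap z).hom, ∀ t : G.presheaf.stalk (i z), r • t = 0 := by
    intro z
    letI := (i.stalkMap z).hom.toAlgebra
    letI := moduleOver i G z
    haveI : IsScalarTower (X.presheaf.stalk (i z)) (Z.presheaf.stalk z)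
        (((Scheme.Modules.pullback i).obj G).presheaf.stalk z) :=
      IsScalarTower.of_algebraMap_smul fun _ _ => rfl
    have h := isBaseChange_unitStalk i G z
    refine Iff.trans ?_ (isBaseChange_injective_iff h (hsurj z))
    refine ((stalkPushforward_bijective i ((Scheme.Modules.pullback i).obj G)
      i.isClosedEmbedding.isInducing z).of_comp_iff' _).symm.trans ?_
    have : ⇑(TopCat.Presheaf.stalkPushforward AddCommGrpCat i.base
        ((Scheme.Modules.pullback i).obj G).presheaf z) ∘
        ((TopCat.Presheaf.stalkFunctor AddCommGrpCat.{u} (i z)).map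
          ((Scheme.Modules.pullbackPushforwardAdjunction i).unit.app G).mapPresheaf) =
        ⇑(unitStalkHom i G z) := funext (stalkPushforward_unit i G z)
    refine Iff.trans (iff_of_eq (congrArg Function.Bijective this)) ?_
    exact ⟨fun hb ↦ hb.1, fun hi ↦ ⟨hi, isBaseChange_surjective h (hsurj z)⟩⟩
  constructor
  · intro hiso
    refine ⟨fun z ↦ (hbc z).mp (bijective_of_isIso _ _), fun x hx ↦ ?_⟩
    exact @Function.Injective.subsingleton _ _ _ (bijective_of_isIso
      ((Scheme.Modules.pullbackPushforwardAdjunction i).unit.app G) x).injective (hoff x hx)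
  · rintro ⟨h₁, h₂⟩
    refine isIso_of_stalks _ fun x ↦ ?_
    by_cases hx : x ∈ Set.range i
    · obtain ⟨z, rfl⟩ := hx
      exact (hbc z).mpr (h₁ z)
    · exact ⟨fun a b _ ↦ @Subsingleton.elim _ (h₂ x hx) a b,
        fun b ↦ ⟨0, @Subsingleton.elim _ (hoff x hx) _ b⟩⟩

/-- Sectionwise criterion. -/
theorem isIso_unit_iff :
    IsIso ((Scheme.Modules.pullbackPushforwardAdjunction i).unit.app G) ↔
      ∀ (U : X.affineOpens) (a : Γ(X, U.1)), a ∈ i.ker.ideal U → ∀ s : Γ(G, U.1), a • s = 0 := by
  rw [isIso_unit_iff_stalk]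
  constructor
  · rintro ⟨h₁, h₂⟩ U a ha s
    refine TopCat.Presheaf.section_ext (⟨G.presheaf, G.isSheaf⟩ : TopCat.Sheaf AddCommGrpCat X)
      U.1 _ _ fun x hx ↦ ?_
    refine Eq.trans ?_ (map_zero (G.presheaf.germ U.1 x hx).hom).symm
    change germM G U.1 x hx (a • s) = 0
    rw [germM_smul]
    by_cases hr : x ∈ Set.range i
    · obtain ⟨z, rfl⟩ := hr
      refine h₁ z _ ?_ _
      rw [RingHom.mem_ker, Scheme.Hom.germ_stalkMap_apply]
      rw [Scheme.Hom.ker_apply, RingHom.mem_ker] at ha
      rw [ha, map_zero]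
    · exact @Subsingleton.elim _ (h₂ x hr) _ _
  · intro h
    refine ⟨fun z r hr t ↦ ?_, fun x hx ↦ subsingleton_of_forall_eq 0 fun t ↦ ?_⟩
    · obtain ⟨V, hxV, b, rfl⟩ := X.presheaf.exists_germ_eq (x := i z) r
      obtain ⟨W, hxW, m, rfl⟩ := exists_germM_eq G (i z) t
      rw [RingHom.mem_ker, Scheme.Hom.germ_stalkMap_apply] at hr
      obtain ⟨P, hzP, jP, _, hP⟩ := Z.presheaf.germ_eq z (show z ∈ i ⁻¹ᵁ V from hxV) (show z ∈ i ⁻¹ᵁ V from hxV) (i.app V b) 0
        (hr.trans (map_zero _).symm)
      obtain ⟨O, hO, hOP⟩ := i.isClosedEmbedding.isInducing.isOpen_iff.mp P.isOpen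
      have hzO : i z ∈ O := hOP.ge hzP
      obtain ⟨_, ⟨(U : X.Opens), (hU : IsAffineOpen U), rfl⟩, hzU, hUle⟩ :=
        X.isBasis_affineOpens.exists_subset_of_mem_open
          (show i z ∈ (V : Set X) ∩ W ∩ O from ⟨⟨hxV, hxW⟩, hzO⟩)
          ((V.isOpen.inter W.isOpen).inter hO)
      have hUV : U ≤ V := fun y hy ↦ (hUle hy).1.1
      have hUW : U ≤ W := fun y hy ↦ (hUle hy).1.2
      have hUP : i ⁻¹ᵁ U ≤ P := fun y hy ↦ hOP.le (hUle hy).2
      have hb : X.presheaf.map (homOfLE hUV).op b ∈ i.ker.ideal ⟨U, hU⟩ := by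
        rw [Scheme.Hom.ker_apply, RingHom.mem_ker]
        have e := ConcreteCategory.congr_hom (i.naturality (homOfLE hUV).op) b
        refine e.trans ?_
        have e2 : (Z.presheaf.map ((Opens.map i.base).map (homOfLE hUV)).op) (i.app V b) =
            Z.presheaf.map (homOfLE hUP).op (Z.presheaf.map jP.op (i.app V b)) := by
          refine (congrArg (fun g ↦ Z.presheaf.map g (i.app V b))
            (Subsingleton.elim _ (jP.op ≫ (homOfLE hUP).op))).trans ?_
          exact (ConcreteCategory.congr_hom (Z.presheaf.map_comp jP.op (homOfLE hUP).op) _).trans rfl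
        refine e2.trans ?_
        rw [hP, map_zero, map_zero]
      have := congrArg (germM G U (i z) hzU) (h ⟨U, hU⟩ _ hb (G.presheaf.map (homOfLE hUW).op m))
      rw [germM_smul, X.presheaf.germ_res_apply] at this
      refine Eq.trans ?_ (this.trans (map_zero (G.presheaf.germ U (i z) hzU).hom))
      exact congrArg (_ • ·) (G.presheaf.germ_res_apply (homOfLE hUW) (i z) hzU m).symm
    · obtain ⟨W, hxW, m, rfl⟩ := exists_germM_eq G x t
      obtain ⟨_, ⟨(U : X.Opens), (hU : IsAffineOpen U), rfl⟩, hxU, hUle⟩ :=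
        X.isBasis_affineOpens.exists_subset_of_mem_open
          (show x ∈ (W : Set X) ∩ (Set.range i)ᶜ from ⟨hxW, hx⟩)
          (W.isOpen.inter i.isClosedEmbedding.isClosed_range.isOpen_compl)
      have hUW : U ≤ W := fun y hy ↦ (hUle hy).1
      have h1 : (1 : Γ(X, U)) ∈ i.ker.ideal ⟨U, hU⟩ := by
        rw [Scheme.Hom.ker_apply, RingHom.mem_ker, map_one]
        have hbot : i ⁻¹ᵁ U = ⊥ := le_bot_iff.mp fun z hz ↦ ((hUle hz).2 ⟨z, rfl⟩)
        haveI : Subsingleton Γ(Z, i ⁻¹ᵁ U) := by
          rw [hbot]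
          exact CommRingCat.subsingleton_of_isTerminal (TopCat.Sheaf.isTerminalOfEmpty Z.sheaf)
        exact Subsingleton.elim _ _
      have := h ⟨U, hU⟩ 1 h1 (G.presheaf.map (homOfLE hUW).op m)
      rw [one_smul] at this
      refine (G.presheaf.germ_res_apply (homOfLE hUW) x hxU m).symm.trans ?_
      exact (congrArg (G.presheaf.germ U x hxU) this).trans (map_zero _)

end Groth.Agent.ClUnit
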